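import Groth.Agent.CohDer1.FPInd.Classify

/-! Consequences: transformations, additivity, sums and right exactness of extensions. -/

set_option autoImplicit false
set_option linter.style.haveILetI false

universe v' u u'

open CategoryTheory CategoryTheory.Limits Function

namespace Groth.Agent.CohDer1.FPInd

variable {A : Type u} [CommRing A] {B : Type u'} [Category.{v'} B] [Preadditive B]

/-- Multiplication by a scalar. -/
lemma lsmul_eq (a : A) :
    (ObjectProperty.homMk (ModuleCat.ofHom (LinearMap.lsmul A A a)) : ringObj A ⟶ ringObj A) =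
      eltH (P := ringObj A) a :=
  ObjectProperty.hom_ext _ (ModuleCat.hom_ext (LinearMap.ext_ring (mul_comm a (1 : A))))

lemma eltH_add {P : (FP A).FullSubcategory} (p q : P.obj) : eltH (p + q) = eltH p + eltH q :=
  ObjectProperty.hom_ext _ (ModuleCat.hom_ext (LinearMap.ext_ring (smul_add (1 : A) p q)))

lemma eltH_smul {P : (FP A).FullSubcategory} (a : A) (p : P.obj) :
    eltH (a • p) = eltH (P := ringObj A) a ≫ eltH p :=
  ObjectProperty.hom_ext _ (ModuleCat.hom_ext (LinearMap.ext_ring (by
    show (1 : A) • a • p = ((1 : A) • a) • p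
    simp)))

theorem nat_ext_and_exists (F F' : (FP A).FullSubcategory ⥤ B) [PreservesFiniteColimits F]
    [PreservesFiniteColimits F'] :
    (∀ t t' : F ⟶ F', t.app (ringObj A) = t'.app (ringObj A) → t = t') ∧
    ∀ φ : F.obj (ringObj A) ⟶ F'.obj (ringObj A),
      (∀ a : A, F.map (eltH (P := ringObj A) a) ≫ φ = φ ≫ F'.map (eltH (P := ringObj A) a)) →
      ∃ t : F ⟶ F', t.app (ringObj A) = φ := by
  haveI := additive_of_preservesFiniteColimits F'
  refine ⟨fun t t' h => NatTrans.ext (funext fun P => hom_ext_elt F fun p => ?_), fun φ hφ => ?_⟩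
  · rw [t.naturality, t'.naturality, h]
  · have H := fun P : (FP A).FullSubcategory => existsUnique_hom F P (F'.obj P) (fun p => φ ≫ F'.map (eltH p))
      (fun p q => by rw [eltH_add, F'.map_add, Preadditive.comp_add])
      (fun a p => by rw [eltH_smul, F'.map_comp, reassoc_of% hφ a])
    choose t ht _ using H
    refine ⟨{ app := t, naturality := fun P Q f => hom_ext_elt F fun p => ?_ }, ?_⟩
    · rw [← F.map_comp_assoc, eltH_comp, ht, ← Category.assoc, ht, Category.assoc, ← F'.map_comp, eltH_comp]
    · have h1 : eltH (P := ringObj A) (1 : A) = 𝟙 (ringObj A) :=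
        ObjectProperty.hom_ext _ (ModuleCat.hom_ext (LinearMap.ext_ring (one_smul A (1 : A))))
      have := ht (ringObj A) (1 : A)
      rw [h1, F.map_id, F'.map_id] at this
      simpa using this

variable (G : ModuleCat.{u} A ⥤ B) [PreservesFilteredColimitsOfSize.{u, u} G]

theorem additive_extension [(inc A ⋙ G).Additive] : G.Additive := by
  refine ⟨fun {M N} {f g} => hom_ext_dense (dense_of_preserves G) fun P h => ?_⟩
  haveI := P.property
  haveI : Module.FinitePresentation A (P.obj × P.obj) := fp_prod _ _
  let W : (FP A).FullSubcategory := ob (ModuleCat.of A (P.obj × P.obj))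
  let q : W.obj ⟶ N := ModuleCat.ofHom ((h ≫ f).hom.coprod (h ≫ g).hom)
  let j₁ : P ⟶ W := ObjectProperty.homMk (ModuleCat.ofHom (LinearMap.inl A P.obj P.obj))
  let j₂ : P ⟶ W := ObjectProperty.homMk (ModuleCat.ofHom (LinearMap.inr A P.obj P.obj))
  have e₁ : j₁.hom ≫ q = h ≫ f := ModuleCat.hom_ext (LinearMap.coprod_inl _ _)
  have e₂ : j₂.hom ≫ q = h ≫ g := ModuleCat.hom_ext (LinearMap.coprod_inr _ _)
  have hadd : G.map (j₁ + j₂).hom = G.map j₁.hom + G.map j₂.hom := (inc A ⋙ G).map_add
  rw [Preadditive.comp_add, ← G.map_comp, ← G.map_comp, ← G.map_comp, Preadditive.comp_add, ← e₁, ← e₂,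
    ← Preadditive.add_comp, G.map_comp, G.map_comp, G.map_comp]
  exact (congrArg (· ≫ G.map q) hadd).trans (Preadditive.add_comp _ _ _ _ _ _)

section Sums

set_option backward.isDefEq.respectTransparency false
set_option backward.defeqAttrib.useBackward true

open CoproductsFromFiniteFiltered

variable {C : Type*} [Category C] {D : Type*} [Category D] {α : Type*}
  [HasFiniteCoproducts C] [HasColimitsOfShape (Finset (Discrete α)) C]

/-- A functor commuting with finite sums and with filtered colimits commutes with sums. -/
theorem preservesCoproducts_of_filtered (F : C ⥤ D) [PreservesFiniteCoproducts F]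
    [PreservesColimitsOfShape (Finset (Discrete α)) F] : PreservesColimitsOfShape (Discrete α) F := by
  classical
  refine ⟨fun {D} => ?_⟩
  let c := liftToFinsetColimitCocone D
  let hc := isColimitOfPreserves F (colimit.isColimit (liftToFinsetObj D))
  let hS : ∀ S : Finset (Discrete α), IsColimit (F.mapCocone (colimit.cocone (Discrete.functor fun x : S => D.obj x.val))) :=
    fun S => isColimitOfPreserves F (colimit.isColimit _)
  let σ : ∀ (s : Cocone (D ⋙ F)) (S : Finset (Discrete α)), F.obj ((liftToFinsetObj D).obj S) ⟶ s.pt := fun s S =>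
    (hS S).desc ⟨s.pt, Discrete.natTrans fun x => s.ι.app x.as.val⟩
  have hσ : ∀ (s : Cocone (D ⋙ F)) (S : Finset (Discrete α)) (x : S),
      F.map (colimit.ι (Discrete.functor fun x : S => D.obj x.val) ⟨x⟩) ≫ σ s S = s.ι.app x.val :=
    fun s S x => (hS S).fac _ ⟨x⟩
  let σc : ∀ s : Cocone (D ⋙ F), Cocone (liftToFinsetObj D ⋙ F) := fun s =>
    { pt := s.pt
      ι :=
        { app := σ s
          naturality := fun S T h => by
            refine (hS S).hom_ext fun ⟨x⟩ => ?_
            dsimp
            rw [Category.comp_id, hσ, ← Category.assoc, ← F.map_comp]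
            erw [colimit.ι_desc]
            exact hσ s T _ } }
  refine preservesColimit_of_preserves_colimit_cocone c.isColimit ?_
  refine { desc := fun s => hc.desc (σc s), fac := fun s j => ?_, uniq := fun s m hm => ?_ }
  · dsimp [c, liftToFinsetColimitCocone]
    rw [F.map_comp, Category.assoc]
    erw [hc.fac (σc s) {j}]
    exact hσ s {j} ⟨j, by simp⟩
  · refine hc.uniq (σc s) m fun S => ?_
    refine (hS S).hom_ext fun ⟨x⟩ => ?_
    refine Eq.trans ?_ (hσ s S x).symm
    rw [← hm x.val]
    dsimp
    rw [← Category.assoc, ← F.map_comp]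
    refine congrArg (fun z => F.map z ≫ m) ?_
    have h := colimit.w (liftToFinsetObj D) (homOfLE (Finset.singleton_subset_iff.2 x.2) : {x.val} ⟶ S)
    dsimp [c, liftToFinsetColimitCocone]
    rw [← h]
    simp [liftToFinsetObj]

end Sums

theorem sums_extension [HasFiniteBiproducts B] [(inc A ⋙ G).Additive] (J : Type u) :
    PreservesColimitsOfShape (Discrete J) G := by
  haveI := additive_extension G
  haveI : PreservesFiniteBiproducts G := inferInstance
  haveI : PreservesFiniteCoproducts G := ⟨fun n => preservesCoproductsOfShape_of_preservesBiproductsOfShape G⟩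
  haveI : PreservesColimitsOfShape (Finset (Discrete J)) G := inferInstance
  exact preservesCoproducts_of_filtered G

theorem rightExact_extension [HasFiniteBiproducts B] [HasCokernels B] [PreservesFiniteColimits (inc A ⋙ G)] :
    G.Additive ∧ PreservesFiniteColimits G ∧ ∀ J : Type u, PreservesColimitsOfShape (Discrete J) G := by
  haveI := additive_of_preservesFiniteColimits (inc A ⋙ G)
  haveI := additive_extension G
  refine ⟨inferInstance, ?_, sums_extension G⟩
  haveI : HasZeroObject B := Limits.hasZeroObject_of_hasFiniteBiproducts B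
  haveI : ∀ {M N : ModuleCat.{u} A} (f : M ⟶ N), PreservesColimit (parallelPair f 0) G := fun {M N} f => by
    refine preservesColimit_of_preserves_colimit_cocone (cokernelIsCokernel f)
      ((isColimitMapCoconeCoforkEquiv G _).symm ?_)
    let C := cokernel f
    let π : N ⟶ C := cokernel.π f
    have hπ : Surjective π := (ModuleCat.epi_iff_surjective π).1 inferInstance
    have hep : ∀ {Z : B} {a b : G.obj C ⟶ Z}, G.map π ≫ a = G.map π ≫ b → a = b := fun {Z a b} h =>
      hom_ext_dense (dense_of_preserves G) fun P g => hom_ext_elt (inc A ⋙ G) fun p => by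
        obtain ⟨n, hn⟩ := hπ (g p)
        show G.map (elt p) ≫ G.map g ≫ a = G.map (elt p) ≫ G.map g ≫ b
        rw [← G.map_comp_assoc, ← G.map_comp_assoc, elt_comp, ← hn, ← elt_comp n π, G.map_comp_assoc,
          G.map_comp_assoc, h]
    refine Cofork.IsColimit.mk' _ fun s => ?_
    let t : G.obj N ⟶ s.pt := s.π
    have ht : G.map f ≫ t = 0 := by
      exact s.condition.trans ((congrArg (· ≫ t) (G.map_zero M N)).trans zero_comp)
    have el : ∀ n n' : N, π n = π n' → G.map (elt n) ≫ t = G.map (elt n') ≫ t := fun n n' hnn => by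
      obtain ⟨m, hm⟩ : ∃ m, f m = n - n' := by
        have hex := (ShortComplex.moduleCat_exact_iff (ShortComplex.mk f π (cokernel.condition f))).1
          (ShortComplex.exact_cokernel f)
        exact hex (n - n') (by show π (n - n') = 0; rw [map_sub, hnn, sub_self])
      rw [← sub_eq_zero, ← Preadditive.sub_comp, ← G.map_sub,
        show elt n - elt n' = elt (n - n') from ModuleCat.hom_ext (LinearMap.ext_ring (smul_sub (1 : A) n n').symm),
        ← hm, ← elt_comp, G.map_comp, Category.assoc, ht, comp_zero]
    let r : C → N := surjInv hπ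
    have hr : ∀ c, π (r c) = c := surjInv_eq hπ
    let l : C → ((inc A ⋙ G).obj (ringObj A) ⟶ s.pt) := fun c => G.map (elt (r c)) ≫ t
    have H := fun X : Idx A C => existsUnique_hom (inc A ⋙ G) X.left s.pt (fun p => l (X.hom p))
      (fun p q => by
        dsimp only [l]
        rw [el (r (X.hom (p + q))) (r (X.hom p) + r (X.hom q)) (by simp only [map_add, hr]),
          ← Preadditive.add_comp, ← G.map_add]
        congr 2
        exact ModuleCat.hom_ext (LinearMap.ext_ring (smul_add (1 : A) _ _)))
      (fun a p => by
        dsimp only [l]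
        rw [el (r (X.hom (a • p))) (a • r (X.hom p)) (by simp only [map_smul, hr])]
        rw [show elt (a • r (X.hom p)) = elt (M := ModuleCat.of A A) a ≫ elt (r (X.hom p)) from
          (elt_comp (M := ModuleCat.of A A) a (elt (r (X.hom p)))).symm, G.map_comp, Category.assoc]
        rfl)
    choose τ hτ hu using H
    let tc : Cocone ((CostructuredArrow.proj (inc A) C ⋙ inc A) ⋙ G) :=
      { pt := s.pt
        ι :=
          { app := τ
            naturality := fun X Y φ => by
              refine Eq.trans ?_ (Category.comp_id _).symm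
              refine hu X _ fun p => ?_
              show G.map (elt p) ≫ G.map φ.left.hom ≫ τ Y = l (X.hom p)
              rw [← G.map_comp_assoc, elt_comp]
              exact (hτ Y (φ.left.hom p)).trans (congrArg l (ConcreteCategory.congr_hom (CostructuredArrow.w φ) p)) } }
    let d : G.obj C ⟶ s.pt := (dense_of_preserves G C).some.desc tc
    have hd : G.map π ≫ d = t := hom_ext_dense (dense_of_preserves G) fun P g =>
      hom_ext_elt (inc A ⋙ G) fun p => by
        haveI := P.property
        let X : Idx A C := CostructuredArrow.mk (S := inc A) (Y := P) (g ≫ π)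
        show G.map (elt p) ≫ G.map g ≫ G.map π ≫ d = G.map (elt p) ≫ G.map g ≫ t
        rw [← G.map_comp_assoc g π, show G.map (g ≫ π) ≫ d = τ X from (dense_of_preserves G C).some.fac tc X,
          ← G.map_comp_assoc, elt_comp]
        exact (hτ X p).trans (el _ _ ((hr _).trans (ConcreteCategory.comp_apply g π p)))
    exact ⟨d, hd, fun {m} hm => hep (hm.trans hd.symm)⟩
  exact Functor.preservesFiniteColimits_of_preservesCokernels G

end Groth.Agent.CohDer1.FPInd
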