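import Mathlib

/-! Every module is canonically the filtered colimit of finitely presented modules. -/

set_option autoImplicit false
set_option linter.style.haveILetI false

universe u

open CategoryTheory CategoryTheory.Limits Function

namespace Groth.Agent.CohDer1.FPInd

variable (A : Type u) [CommRing A]

/-- Finitely presented modules. -/
abbrev FP : ObjectProperty (ModuleCat.{u} A) := fun M => Module.FinitePresentation A M

/-- The inclusion. -/
abbrev inc : (FP A).FullSubcategory ⥤ ModuleCat.{u} A := (FP A).ι

/-- The index category. -/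
abbrev Idx (M : ModuleCat.{u} A) := CostructuredArrow (inc A) M

variable {A}

/-- Make an object. -/
abbrev ob (M : ModuleCat.{u} A) [h : Module.FinitePresentation A M] : (FP A).FullSubcategory := ⟨M, h⟩

/-- Make an index. -/
abbrev idx {M P : ModuleCat.{u} A} [Module.FinitePresentation A P] (f : P ⟶ M) : Idx A M :=
  CostructuredArrow.mk (S := inc A) (Y := ob P) f

/-- The map out of the ring. -/
noncomputable abbrev elt {M : ModuleCat.{u} A} (m : M) : ModuleCat.of A A ⟶ M :=
  ModuleCat.ofHom (LinearMap.toSpanSingleton A M m)

lemma elt_apply {M : ModuleCat.{u} A} (m : M) (a : A) : elt m a = a • m := rfl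

lemma elt_comp {M N : ModuleCat.{u} A} (m : M) (f : M ⟶ N) : elt m ≫ f = elt (f m) :=
  ModuleCat.hom_ext (LinearMap.ext_ring (by
    show f ((1 : A) • m) = (1 : A) • f m
    rw [one_smul, one_smul]))

lemma fp_prod (M N : Type u) [AddCommGroup M] [Module A M] [AddCommGroup N] [Module A N]
    [Module.FinitePresentation A M] [Module.FinitePresentation A N] :
    Module.FinitePresentation A (M × N) := by
  haveI : Module.FinitePresentation A (LinearMap.ker (LinearMap.snd A M N)) := by
    rw [LinearMap.ker_snd]
    exact Module.FinitePresentation.of_equiv (LinearEquiv.ofInjective (LinearMap.inl A M N) LinearMap.inl_injective)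
  exact Module.finitePresentation_of_ker (LinearMap.snd A M N) Prod.snd_surjective

lemma fp_quot {M : Type u} [AddCommGroup M] [Module A M] [Module.FinitePresentation A M] {N : Submodule A M}
    (hN : N.FG) : Module.FinitePresentation A (M ⧸ N) :=
  Module.finitePresentation_of_surjective N.mkQ N.mkQ_surjective (by rwa [Submodule.ker_mkQ])

instance nonempty_idx (M : ModuleCat.{u} A) : Nonempty (Idx A M) :=
  ⟨idx (elt (0 : M))⟩

instance isFiltered_idx (M : ModuleCat.{u} A) : IsFiltered (Idx A M) where
  cocone_objs X Y := by
    haveI := X.left.2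
    haveI := Y.left.2
    haveI : Module.FinitePresentation A (X.left.1 × Y.left.1) := fp_prod _ _
    refine ⟨idx (P := ModuleCat.of A (X.left.1 × Y.left.1)) (ModuleCat.ofHom (X.hom.hom.coprod Y.hom.hom)),
      CostructuredArrow.homMk (ObjectProperty.homMk (ModuleCat.ofHom (LinearMap.inl A X.left.1 Y.left.1))) ?_,
      CostructuredArrow.homMk (ObjectProperty.homMk (ModuleCat.ofHom (LinearMap.inr A X.left.1 Y.left.1))) ?_, trivial⟩
    · exact ModuleCat.hom_ext (LinearMap.coprod_inl _ _)
    · exact ModuleCat.hom_ext (LinearMap.coprod_inr _ _)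
  cocone_maps X Y f g := by
    haveI := X.left.2
    haveI := Y.left.2
    let d : X.left.1 →ₗ[A] Y.left.1 := f.left.hom.hom - g.left.hom.hom
    have hd : LinearMap.range d ≤ LinearMap.ker Y.hom.hom := by
      rintro _ ⟨x, rfl⟩
      show Y.hom.hom (f.left.hom.hom x - g.left.hom.hom x) = 0
      rw [map_sub, sub_eq_zero]
      exact (ConcreteCategory.congr_hom (CostructuredArrow.w f) x).trans
        (ConcreteCategory.congr_hom (CostructuredArrow.w g) x).symm
    haveI : Module.FinitePresentation A (Y.left.1 ⧸ LinearMap.range d) :=
      fp_quot (by rw [LinearMap.range_eq_map]; exact (Module.Finite.fg_top).map d)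
    refine ⟨idx (P := ModuleCat.of A (Y.left.1 ⧸ LinearMap.range d))
        (ModuleCat.ofHom ((LinearMap.range d).liftQ Y.hom.hom hd)),
      CostructuredArrow.homMk (ObjectProperty.homMk (ModuleCat.ofHom (LinearMap.range d).mkQ)) ?_, ?_⟩
    · exact ModuleCat.hom_ext ((LinearMap.range d).liftQ_mkQ _ hd)
    · refine CostructuredArrow.hom_ext _ _ (ObjectProperty.hom_ext _ (ModuleCat.hom_ext (LinearMap.ext fun x => ?_)))
      exact (Submodule.Quotient.eq _).2 ⟨x, rfl⟩

instance essentiallySmall_fp : ObjectProperty.EssentiallySmall.{u} (FP A) where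
  exists_small_le' := by
    let X : (Σ n : ℕ, Submodule A (Fin n → A)) → ModuleCat.{u} A := fun s => ModuleCat.of A ((Fin s.1 → A) ⧸ s.2)
    refine ⟨ObjectProperty.ofObj X, inferInstance, fun M hM => ?_⟩
    haveI : Module.FinitePresentation A M := hM
    obtain ⟨n, f, hf⟩ := Module.Finite.exists_fin' A M
    exact ⟨X ⟨n, LinearMap.ker f⟩, ObjectProperty.ofObj_apply X _,
      ⟨(f.quotKerEquivOfSurjective hf).symm.toModuleIso⟩⟩

instance essentiallySmall_fpCat : EssentiallySmall.{u} (FP A).FullSubcategory := inferInstance

instance essentiallySmall_idx (M : ModuleCat.{u} A) : EssentiallySmall.{u} (Idx A M) := inferInstance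

variable (A) in
/-- The canonical cocone. -/
noncomputable abbrev canCocone (M : ModuleCat.{u} A) :
    Cocone (CostructuredArrow.proj (inc A) M ⋙ inc A) where
  pt := M
  ι := { app := fun X => X.hom, naturality := fun X Y f => (CostructuredArrow.w f).trans (Category.comp_id _).symm }

/-- Density. -/
noncomputable def isColimit_can (M : ModuleCat.{u} A) : IsColimit (canCocone A M) where
  desc s := ModuleCat.ofHom
    { toFun := fun m => s.ι.app (idx (elt m)) (1 : A)
      map_add' := fun m m' => by
        haveI : Module.FinitePresentation A (A × A) := fp_prod A A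
        let Z := idx (P := ModuleCat.of A (A × A)) (ModuleCat.ofHom ((elt m).hom.coprod (elt m').hom))
        have key : ∀ x y : A, ∀ z : M, x • m + y • m' = z →
            s.ι.app (idx (elt z)) (1 : A) = s.ι.app Z (x, y) := fun x y z hz => by
          let φ : idx (elt z) ⟶ Z := CostructuredArrow.homMk
            (ObjectProperty.homMk (ModuleCat.ofHom (LinearMap.toSpanSingleton A (A × A) (x, y)))) (by
              refine ModuleCat.hom_ext (LinearMap.ext_ring ?_)
              show ((1 : A) • (x, y)).1 • m + ((1 : A) • (x, y)).2 • m' = (1 : A) • z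
              rw [one_smul, one_smul, hz])
          exact (ConcreteCategory.congr_hom (s.w φ).symm (1 : A)).trans
            (congrArg (s.ι.app Z) (one_smul A ((x, y) : A × A)))
        rw [key 1 1 (m + m') (by simp), key 1 0 m (by simp), key 0 1 m' (by simp)]
        rw [← map_add]
        congr 1
        exact Prod.ext (add_zero (1 : A)).symm (zero_add (1 : A)).symm
      map_smul' := fun r m => by
        let φ : idx (elt (r • m)) ⟶ idx (elt m) := CostructuredArrow.homMk
          (ObjectProperty.homMk (elt (M := ModuleCat.of A A) r)) (by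
            refine ModuleCat.hom_ext (LinearMap.ext_ring ?_)
            show ((1 : A) • r) • m = (1 : A) • r • m
            simp)
        rw [RingHom.id_apply]
        refine (ConcreteCategory.congr_hom (s.w φ).symm (1 : A)).trans ?_
        refine Eq.trans (congrArg (s.ι.app (idx (elt m))) ?_) (map_smul (s.ι.app (idx (elt m))).hom r (1 : A))
        show (1 : A) • r = r • (1 : A)
        simp }
  fac s X := by
    refine ModuleCat.hom_ext (LinearMap.ext fun x => ?_)
    haveI := X.left.2
    let φ : idx (elt (X.hom x)) ⟶ X := CostructuredArrow.homMk (ObjectProperty.homMk (elt x)) (by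
      exact elt_comp x X.hom)
    exact (ConcreteCategory.congr_hom (s.w φ).symm (1 : A)).trans (congrArg (s.ι.app X) (one_smul A x))
  uniq s g hg := by
    refine ModuleCat.hom_ext (LinearMap.ext fun m => ?_)
    exact (congrArg g (one_smul A m).symm).trans (ConcreteCategory.congr_hom (hg (idx (elt m))) (1 : A))

end Groth.Agent.CohDer1.FPInd
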