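import Groth.Agent.CohDer1.FPInd.Ext

/-! Right exact functors on finitely presented modules and their extensions. -/

set_option autoImplicit false
set_option linter.style.haveILetI false

universe v' w u u'

open CategoryTheory CategoryTheory.Limits Function

namespace Groth.Agent.CohDer1.FPInd

variable {A : Type u} [CommRing A] {B : Type u'} [Category.{v'} B] [Preadditive B]

section Additive

variable (F : (FP A).FullSubcategory ⥤ B)

/-- The ring as a finitely presented module. -/
abbrev ringObj (A : Type u) [CommRing A] : (FP A).FullSubcategory :=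
  @ob A _ (ModuleCat.of A A) (inferInstanceAs (Module.FinitePresentation A A))

/-- The map given by an element. -/
noncomputable abbrev eltH {P : (FP A).FullSubcategory} (p : P.obj) : ringObj A ⟶ P :=
  ObjectProperty.homMk (elt p)

lemma eltH_comp {P Q : (FP A).FullSubcategory} (p : P.obj) (f : P ⟶ Q) : eltH p ≫ f = eltH (f.hom p) :=
  ObjectProperty.hom_ext _ (elt_comp p f.hom)

/-- Right exactness gives additivity. -/
lemma additive_of_preservesFiniteColimits [PreservesFiniteColimits F] : F.Additive := by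
  let Z : (FP A).FullSubcategory := @ob A _ (ModuleCat.of A PUnit) (inferInstanceAs (Module.FinitePresentation A PUnit.{u + 1}))
  have hZ : IsInitial Z := IsInitial.ofUniqueHom
    (fun Q => ObjectProperty.homMk (ModuleCat.ofHom (0 : PUnit.{u + 1} →ₗ[A] Q.obj)))
    (fun Q m => ObjectProperty.hom_ext _ (ModuleCat.hom_ext (LinearMap.ext fun x => by
      rw [show x = 0 from Subsingleton.elim _ _, map_zero, map_zero])))
  have hFZ : IsZero (F.obj Z) := by
    have hi := IsInitial.isInitialObj F Z hZ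
    exact (IsZero.iff_id_eq_zero _).2 (hi.hom_ext _ _)
  have hzero : ∀ (P Q : (FP A).FullSubcategory), F.map (0 : P ⟶ Q) = 0 := fun P Q => by
    have : (0 : P ⟶ Q) = (0 : P ⟶ Z) ≫ (0 : Z ⟶ Q) := zero_comp.symm
    rw [this, F.map_comp]
    exact (hFZ.eq_of_tgt (F.map _) 0).symm ▸ zero_comp
  refine ⟨fun {P Q} {f g} => ?_⟩
  haveI := Q.property
  let W : (FP A).FullSubcategory := @ob A _ (ModuleCat.of A (Q.obj × Q.obj)) (fp_prod Q.obj Q.obj)
  let i₁ : Q ⟶ W := ObjectProperty.homMk (ModuleCat.ofHom (LinearMap.inl A Q.obj Q.obj))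
  let i₂ : Q ⟶ W := ObjectProperty.homMk (ModuleCat.ofHom (LinearMap.inr A Q.obj Q.obj))
  let p₁ : W ⟶ Q := ObjectProperty.homMk (ModuleCat.ofHom (LinearMap.fst A Q.obj Q.obj))
  let p₂ : W ⟶ Q := ObjectProperty.homMk (ModuleCat.ofHom (LinearMap.snd A Q.obj Q.obj))
  let hc : IsColimit (BinaryCofan.mk i₁ i₂) := BinaryCofan.isColimitMk
    (fun s => ObjectProperty.homMk (ModuleCat.ofHom (s.inl.hom.hom.coprod s.inr.hom.hom)))
    (fun s => ObjectProperty.hom_ext _ (ModuleCat.hom_ext (LinearMap.coprod_inl _ _)))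
    (fun s => ObjectProperty.hom_ext _ (ModuleCat.hom_ext (LinearMap.coprod_inr _ _)))
    (fun s m h₁ h₂ => ObjectProperty.hom_ext _ (ModuleCat.hom_ext (LinearMap.prod_ext
      ((congrArg (fun φ => φ.hom.hom) h₁).trans (LinearMap.coprod_inl _ _).symm)
      ((congrArg (fun φ => φ.hom.hom) h₂).trans (LinearMap.coprod_inr _ _).symm))))
  let hF := mapIsColimitOfPreservesOfIsColimit F i₁ i₂ hc
  have e11 : i₁ ≫ p₁ = 𝟙 Q := ObjectProperty.hom_ext _ (ModuleCat.hom_ext (LinearMap.ext fun _ => rfl))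
  have e22 : i₂ ≫ p₂ = 𝟙 Q := ObjectProperty.hom_ext _ (ModuleCat.hom_ext (LinearMap.ext fun _ => rfl))
  have e12 : i₁ ≫ p₂ = 0 := ObjectProperty.hom_ext _ (ModuleCat.hom_ext (LinearMap.ext fun _ => rfl))
  have e21 : i₂ ≫ p₁ = 0 := ObjectProperty.hom_ext _ (ModuleCat.hom_ext (LinearMap.ext fun _ => rfl))
  have tot : F.map p₁ ≫ F.map i₁ + F.map p₂ ≫ F.map i₂ = 𝟙 _ := by
    refine BinaryCofan.IsColimit.hom_ext hF ?_ ?_
    · show F.map i₁ ≫ _ = F.map i₁ ≫ 𝟙 _
      rw [Preadditive.comp_add, ← F.map_comp_assoc, ← F.map_comp_assoc, e11, e12, hzero]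
      simp
    · show F.map i₂ ≫ _ = F.map i₂ ≫ 𝟙 _
      rw [Preadditive.comp_add, ← F.map_comp_assoc, ← F.map_comp_assoc, e21, e22, hzero]
      simp
  let δ : P ⟶ W := ObjectProperty.homMk (ModuleCat.ofHom (f.hom.hom.prod g.hom.hom))
  let s : W ⟶ Q := ObjectProperty.homMk (ModuleCat.ofHom (LinearMap.coprod LinearMap.id LinearMap.id))
  have e1 : i₁ ≫ s = 𝟙 Q := ObjectProperty.hom_ext _ (ModuleCat.hom_ext (LinearMap.coprod_inl _ _))
  have e2 : i₂ ≫ s = 𝟙 Q := ObjectProperty.hom_ext _ (ModuleCat.hom_ext (LinearMap.coprod_inr _ _))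
  have ef : δ ≫ p₁ = f := ObjectProperty.hom_ext _ (ModuleCat.hom_ext (LinearMap.ext fun _ => rfl))
  have eg : δ ≫ p₂ = g := ObjectProperty.hom_ext _ (ModuleCat.hom_ext (LinearMap.ext fun _ => rfl))
  have es : δ ≫ s = f + g := ObjectProperty.hom_ext _ (ModuleCat.hom_ext (LinearMap.ext fun _ => rfl))
  rw [← es, F.map_comp]
  conv_lhs => rw [← Category.comp_id (F.map δ), ← tot]
  simp only [Preadditive.add_comp, Preadditive.comp_add, Category.assoc, ← F.map_comp, e1, e2,
    Category.comp_id, ef, eg]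

end Additive

variable (F : (FP A).FullSubcategory ⥤ B) [PreservesFiniteColimits F]

/-- Maps out of a value are given by their restrictions to elements. -/
theorem existsUnique_hom (P : (FP A).FullSubcategory) (Z : B) (l : P.obj → (F.obj (ringObj A) ⟶ Z))
    (hadd : ∀ p q, l (p + q) = l p + l q)
    (hsmul : ∀ (a : A) p, l (a • p) = F.map (eltH (P := ringObj A) a) ≫ l p) :
    ∃! t : F.obj P ⟶ Z, ∀ p, F.map (eltH p) ≫ t = l p := by
  classical
  haveI := additive_of_preservesFiniteColimits F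
  haveI := P.property
  obtain ⟨n, π, hπ⟩ := Module.Finite.exists_fin' A P.obj
  haveI : Module.Finite A (LinearMap.ker π) := Module.Finite.of_fg (Module.FinitePresentation.fg_ker π hπ)
  obtain ⟨m, σ, hσ⟩ := Module.Finite.exists_fin' A (LinearMap.ker π)
  let Fn : (FP A).FullSubcategory := @ob A _ (ModuleCat.of A (Fin n → A)) (inferInstanceAs (Module.FinitePresentation A (Fin n → A)))
  let Fm : (FP A).FullSubcategory := @ob A _ (ModuleCat.of A (Fin m → A)) (inferInstanceAs (Module.FinitePresentation A (Fin m → A)))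
  let πH : Fn ⟶ P := ObjectProperty.homMk (ModuleCat.ofHom π)
  let ρH : Fm ⟶ Fn := ObjectProperty.homMk (ModuleCat.ofHom ((LinearMap.ker π).subtype ∘ₗ σ))
  have hρπ : ρH ≫ πH = (0 : Fm ⟶ Fn) ≫ πH := by
    rw [zero_comp]
    exact ObjectProperty.hom_ext _ (ModuleCat.hom_ext (LinearMap.ext fun x => (σ x).2))
  have hcof : ∀ s : Cofork ρH (0 : Fm ⟶ Fn), ∀ x ∈ LinearMap.ker π, s.π.hom x = 0 := fun s x hx => by
    obtain ⟨y, hy⟩ := hσ ⟨x, hx⟩
    have := congrArg (fun φ => φ.hom y) s.condition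
    rw [zero_comp] at this
    exact (congrArg s.π.hom.hom (congrArg Subtype.val hy).symm).trans this
  have hc : IsColimit (Cofork.ofπ πH hρπ) := Cofork.IsColimit.mk _
    (fun s => ObjectProperty.homMk (ModuleCat.ofHom (exists_descend π hπ s.π.hom.hom (hcof s)).choose))
    (fun s => ObjectProperty.hom_ext _ (ModuleCat.hom_ext (LinearMap.ext fun x =>
      (exists_descend π hπ s.π.hom.hom (hcof s)).choose_spec x)))
    (fun s g hg => ObjectProperty.hom_ext _ (ModuleCat.hom_ext (LinearMap.ext fun p => by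
      obtain ⟨x, rfl⟩ := hπ p
      exact (congrArg (fun φ => φ.hom x) hg).trans
        ((exists_descend π hπ s.π.hom.hom (hcof s)).choose_spec x).symm)))
  let hF := isColimitCoforkMapOfIsColimit F hρπ hc
  let pr : Fin n → (Fn ⟶ ringObj A) := fun i => ObjectProperty.homMk (ModuleCat.ofHom (LinearMap.proj i))
  let e : Fin n → (ringObj A ⟶ Fn) := fun i => eltH (P := Fn) (Pi.single i (1 : A))
  have hid : 𝟙 Fn = ∑ i, pr i ≫ e i := by
    refine ObjectProperty.hom_ext _ ?_
    rw [show (∑ i, pr i ≫ e i).hom = ∑ i, (pr i ≫ e i).hom from map_sum (FP A).ι.mapAddHom _ _]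
    refine ModuleCat.hom_ext (LinearMap.ext fun (x : Fin n → A) => ?_)
    rw [ModuleCat.hom_sum, LinearMap.sum_apply]
    exact (pi_eq_sum_univ' x).trans (Finset.sum_congr rfl fun i _ => by
      show _ = x i • (Pi.single i (1 : A) : Fin n → A)
      rfl)
  have uniq : ∀ {t t' : F.obj Fn ⟶ Z}, (∀ x : Fn.obj, F.map (eltH x) ≫ t = F.map (eltH x) ≫ t') → t = t' := by
    intro t t' h
    rw [← Category.id_comp t, ← Category.id_comp t', ← F.map_id, hid, F.map_sum, Preadditive.sum_comp,
      Preadditive.sum_comp]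
    refine Finset.sum_congr rfl fun i _ => ?_
    rw [F.map_comp, Category.assoc, Category.assoc, h]
  have l0 : l 0 = 0 := left_eq_add.1 ((congrArg l (add_zero 0).symm).trans (hadd 0 0))
  have lsum : ∀ (s : Finset (Fin n)) (v : Fin n → P.obj), l (∑ i ∈ s, v i) = ∑ i ∈ s, l (v i) := fun s v => by
    induction s using Finset.induction_on with
    | empty => simp [l0]
    | insert i s hi ih => rw [Finset.sum_insert hi, Finset.sum_insert hi, hadd, ih]
  let t₀ : F.obj Fn ⟶ Z := ∑ i, F.map (pr i) ≫ l (π (Pi.single i (1 : A)))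
  have ht₀ : ∀ x : Fn.obj, F.map (eltH x) ≫ t₀ = l (π x) := fun (x : Fin n → A) => by
    have hx : π x = ∑ i, x i • π (Pi.single i (1 : A)) := by
      conv_lhs => rw [pi_eq_sum_univ' x]
      rw [map_sum]
      exact Finset.sum_congr rfl fun i _ => map_smul π (x i) _
    rw [hx, lsum, Preadditive.comp_sum]
    refine Finset.sum_congr rfl fun i _ => ?_
    rw [← F.map_comp_assoc, eltH_comp, hsmul]
    rfl
  have hw : F.map ρH ≫ t₀ = F.map (0 : Fm ⟶ Fn) ≫ t₀ := by
    rw [F.map_zero, zero_comp]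
    have hid' : ∀ t : F.obj Fm ⟶ Z, (∀ y : Fm.obj, F.map (eltH y) ≫ t = 0) → t = 0 := fun t ht => by
      have h1 : 𝟙 Fm = ∑ i : Fin m, (ObjectProperty.homMk (ModuleCat.ofHom (LinearMap.proj i)) : Fm ⟶ ringObj A) ≫
          eltH (P := Fm) (Pi.single i (1 : A)) := by
        refine ObjectProperty.hom_ext _ ?_
        rw [show (∑ i : Fin m, (ObjectProperty.homMk (ModuleCat.ofHom (LinearMap.proj i)) : Fm ⟶ ringObj A) ≫
          eltH (P := Fm) (Pi.single i (1 : A))).hom = ∑ i : Fin m, _ from map_sum (FP A).ι.mapAddHom _ _]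
        refine ModuleCat.hom_ext (LinearMap.ext fun (x : Fin m → A) => ?_)
        rw [ModuleCat.hom_sum, LinearMap.sum_apply]
        exact (pi_eq_sum_univ' x).trans (Finset.sum_congr rfl fun i _ => by
          show _ = x i • (Pi.single i (1 : A) : Fin m → A)
          rfl)
      rw [← Category.id_comp t, ← F.map_id, h1, F.map_sum, Preadditive.sum_comp]
      exact Finset.sum_eq_zero fun i _ => by rw [F.map_comp, Category.assoc, ht, comp_zero]
    refine hid' _ fun y => ?_
    rw [← F.map_comp_assoc, eltH_comp, ht₀]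
    exact (congrArg l (σ y).2).trans l0
  let t := Cofork.IsColimit.desc hF t₀ hw
  have htπ : F.map πH ≫ t = t₀ := Cofork.IsColimit.π_desc' hF t₀ hw
  refine ⟨t, fun p => ?_, fun t' ht' => ?_⟩
  · obtain ⟨x, rfl⟩ := hπ p
    have hx : eltH (P := P) (π x) = eltH (P := Fn) x ≫ πH := (eltH_comp (P := Fn) x πH).symm
    rw [hx, F.map_comp, Category.assoc, htπ, ht₀]
  · refine Cofork.IsColimit.hom_ext hF ?_
    show F.map πH ≫ t' = F.map πH ≫ t
    rw [htπ]
    refine uniq fun x => ?_
    rw [← F.map_comp_assoc, eltH_comp, ht₀]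
    exact ht' _

theorem hom_ext_elt {P : (FP A).FullSubcategory} {Z : B} {t t' : F.obj P ⟶ Z}
    (h : ∀ p, F.map (eltH p) ≫ t = F.map (eltH p) ≫ t') : t = t' := by
  haveI := additive_of_preservesFiniteColimits F
  refine (existsUnique_hom F P Z (fun p => F.map (eltH p) ≫ t') (fun p q => ?_) (fun a p => ?_)).unique h fun p => rfl
  · rw [← Preadditive.add_comp, ← F.map_add]
    congr 2
    exact ObjectProperty.hom_ext _ (ModuleCat.hom_ext (LinearMap.ext_ring (smul_add (1 : A) p q)))
  · rw [← F.map_comp_assoc, eltH_comp]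
    rfl

end Groth.Agent.CohDer1.FPInd
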