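import Groth.Agent.CohDer1.FPInd.Basic

/-! Extension of functors from finitely presented modules along filtered colimits. -/

set_option autoImplicit false
set_option linter.style.haveILetI false

universe v' u u'

open CategoryTheory CategoryTheory.Limits Function

namespace Groth.Agent.CohDer1.FPInd

variable {A : Type u} [CommRing A]

lemma exists_descend {M N Q : Type u} [AddCommGroup M] [Module A M] [AddCommGroup N] [Module A N]
    [AddCommGroup Q] [Module A Q] (π : M →ₗ[A] N) (hπ : Surjective π) (l : M →ₗ[A] Q)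
    (h : ∀ x ∈ LinearMap.ker π, l x = 0) : ∃ ψ : N →ₗ[A] Q, ∀ x, ψ (π x) = l x :=
  ⟨((LinearMap.ker π).liftQ l h).comp (π.quotKerEquivOfSurjective hπ).symm.toLinearMap, fun x => by
    have e : (π.quotKerEquivOfSurjective hπ).symm (π x) = Submodule.Quotient.mk x :=
      (LinearEquiv.symm_apply_eq _).2 rfl
    exact (congrArg ((LinearMap.ker π).liftQ l h) e).trans (Submodule.liftQ_apply _ _ x)⟩

section Lift

variable {J : Type u} [SmallCategory J] [IsFiltered J] {D : J ⥤ ModuleCat.{u} A} {c : Cocone D}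
  (hc : IsColimit c) {P : ModuleCat.{u} A}

include hc

lemma exists_eq [Module.Finite A P] {i j : J} (f : P ⟶ D.obj i) (g : P ⟶ D.obj j)
    (h : f ≫ c.ι.app i = g ≫ c.ι.app j) :
    ∃ (k : J) (u : i ⟶ k) (v : j ⟶ k), f ≫ D.map u = g ≫ D.map v := by
  classical
  obtain ⟨s, hs⟩ := (Module.Finite.fg_top (R := A) (M := P))
  suffices H : ∀ t : Finset P, ∃ (k : J) (u : i ⟶ k) (v : j ⟶ k), ∀ x ∈ t, D.map u (f x) = D.map v (g x) by
    obtain ⟨k, u, v, hk⟩ := H s
    exact ⟨k, u, v, ModuleCat.hom_ext (LinearMap.ext_on hs fun x hx => hk x hx)⟩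
  intro t
  induction t using Finset.induction_on with
  | empty => exact ⟨IsFiltered.max i j, IsFiltered.leftToMax i j, IsFiltered.rightToMax i j, fun x hx => absurd hx (Finset.notMem_empty x)⟩
  | insert x t _ ih =>
    obtain ⟨k, u, v, hk⟩ := ih
    have h2 : c.ι.app k (D.map u (f x)) = c.ι.app k (D.map v (g x)) := by
      refine (ConcreteCategory.congr_hom (c.w u) (f x)).trans (Eq.trans ?_ (ConcreteCategory.congr_hom (c.w v) (g x)).symm)
      exact ConcreteCategory.congr_hom h x
    obtain ⟨l, w₁, w₂, hw⟩ := Concrete.isColimit_exists_of_rep_eq D hc _ _ h2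
    let q := IsFiltered.coeqHom w₁ w₂
    refine ⟨IsFiltered.coeq w₁ w₂, u ≫ w₁ ≫ q, v ≫ w₁ ≫ q, fun y hy => ?_⟩
    have e : ∀ {a : J} (p : a ⟶ k) (z : D.obj a), D.map (p ≫ w₁ ≫ q) z = D.map q (D.map w₁ (D.map p z)) := fun p z => by
      rw [D.map_comp, D.map_comp]; rfl
    rw [e, e]
    rcases Finset.mem_insert.1 hy with rfl | hy
    · rw [hw]
      have hq : D.map w₂ ≫ D.map q = D.map w₁ ≫ D.map q := by
        rw [← D.map_comp, ← D.map_comp, IsFiltered.coeq_condition w₁ w₂]
      exact ConcreteCategory.congr_hom hq (D.map v (g y))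
    · rw [hk y hy]

lemma exists_lift [Module.FinitePresentation A P] (f : P ⟶ c.pt) :
    ∃ (j : J) (g : P ⟶ D.obj j), g ≫ c.ι.app j = f := by
  classical
  obtain ⟨n, π, hπ⟩ := Module.Finite.exists_fin' A P
  choose i y hy using fun a : Fin n => Concrete.isColimit_exists_rep D hc (f (π (Pi.single a 1)))
  obtain ⟨j, hj⟩ := IsFiltered.sup_objs_exists (Finset.univ.image i)
  let u : ∀ a, i a ⟶ j := fun a => (hj (Finset.mem_image_of_mem i (Finset.mem_univ a))).some
  obtain ⟨g₀, hg₀⟩ : ∃ g₀ : ModuleCat.of A (Fin n → A) ⟶ D.obj j, g₀ ≫ c.ι.app j = ModuleCat.ofHom π ≫ f := by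
    refine ⟨ModuleCat.ofHom ((Pi.basisFun A (Fin n)).constr A fun a => D.map (u a) (y a)), ?_⟩
    refine ModuleCat.hom_ext ((Pi.basisFun A (Fin n)).ext fun a => ?_)
    show c.ι.app j (((Pi.basisFun A (Fin n)).constr A fun a => D.map (u a) (y a)) (Pi.basisFun A (Fin n) a)) =
      f (π (Pi.basisFun A (Fin n) a))
    rw [Module.Basis.constr_basis, Pi.basisFun_apply, ← hy]
    exact ConcreteCategory.congr_hom (c.w (u a)) (y a)
  haveI : Module.Finite A (LinearMap.ker π) := Module.Finite.of_fg (Module.FinitePresentation.fg_ker π hπ)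
  have hz : (ModuleCat.ofHom (LinearMap.ker π).subtype ≫ g₀) ≫ c.ι.app j =
      (0 : ModuleCat.of A (LinearMap.ker π) ⟶ D.obj j) ≫ c.ι.app j := by
    rw [Category.assoc, hg₀, zero_comp]
    exact ModuleCat.hom_ext (LinearMap.ext fun x => (congrArg f.hom x.2).trans (map_zero f.hom))
  obtain ⟨k, v, w, hk⟩ := exists_eq hc (P := ModuleCat.of A (LinearMap.ker π))
    (ModuleCat.ofHom (LinearMap.ker π).subtype ≫ g₀) (0 : ModuleCat.of A (LinearMap.ker π) ⟶ D.obj j) hz
  rw [zero_comp] at hk
  obtain ⟨ψ, hψ⟩ := exists_descend π hπ ((D.map v).hom.comp g₀.hom) fun x hx =>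
    ConcreteCategory.congr_hom hk ⟨x, hx⟩
  refine ⟨k, ModuleCat.ofHom ψ, ModuleCat.hom_ext (LinearMap.ext fun p => ?_)⟩
  obtain ⟨x, rfl⟩ := hπ p
  exact (congrArg (c.ι.app k).hom (hψ x)).trans
    ((ConcreteCategory.congr_hom (c.w v) (g₀ x)).trans (ConcreteCategory.congr_hom hg₀ x))

end Lift

variable {B : Type u'} [Category.{v'} B]

/-- Canonical cocones go to colimits. -/
abbrev Dense (G : ModuleCat.{u} A ⥤ B) : Prop :=
  ∀ M, Nonempty (IsColimit (G.mapCocone (canCocone A M)))

lemma hasColimitsOfShape_idx [HasFilteredColimitsOfSize.{u, u} B] (M : ModuleCat.{u} A) :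
    HasColimitsOfShape (Idx A M) B :=
  haveI := IsFiltered.of_equivalence (equivSmallModel.{u} (Idx A M))
  hasColimitsOfShape_of_equivalence (equivSmallModel.{u} (Idx A M)).symm

lemma preservesColimitsOfShape_idx (G : ModuleCat.{u} A ⥤ B) [PreservesFilteredColimitsOfSize.{u, u} G]
    (M : ModuleCat.{u} A) : PreservesColimitsOfShape (Idx A M) G :=
  haveI := IsFiltered.of_equivalence (equivSmallModel.{u} (Idx A M))
  preservesColimitsOfShape_of_equiv (equivSmallModel.{u} (Idx A M)).symm G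

lemma dense_of_preserves (G : ModuleCat.{u} A ⥤ B) [PreservesFilteredColimitsOfSize.{u, u} G] : Dense G := fun M =>
  haveI := preservesColimitsOfShape_idx G M
  ⟨isColimitOfPreserves G (isColimit_can M)⟩

/-- Maps out of the values are determined on finitely presented modules. -/
lemma hom_ext_dense {G : ModuleCat.{u} A ⥤ B} (hG : Dense G) {M : ModuleCat.{u} A} {Z : B} {a b : G.obj M ⟶ Z}
    (h : ∀ (P : (FP A).FullSubcategory) (f : P.obj ⟶ M), G.map f ≫ a = G.map f ≫ b) : a = b :=
  (hG M).some.hom_ext fun X => h X.left X.hom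

theorem preserves_of_dense (G : ModuleCat.{u} A ⥤ B) (hG : Dense G) :
    PreservesFilteredColimitsOfSize.{u, u} G := by
  refine ⟨fun J _ _ => ⟨fun {D} => ⟨fun {c} hc => ⟨?_⟩⟩⟩⟩
  choose j g hg using fun X : Idx A c.pt => haveI := X.left.2; exists_lift hc (P := X.left.obj) X.hom
  have val : ∀ (s : Cocone (D ⋙ G)) (X : Idx A c.pt) (k : J) (h : X.left.obj ⟶ D.obj k),
      h ≫ c.ι.app k = X.hom → G.map (g X) ≫ s.ι.app (j X) = G.map h ≫ s.ι.app k := fun s X k h hh => by
    haveI := X.left.2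
    obtain ⟨l, u, v, huv⟩ := exists_eq hc (P := X.left.obj) (g X) h ((hg X).trans hh.symm)
    rw [← s.w u, ← s.w v, Functor.comp_map, Functor.comp_map, ← G.map_comp_assoc, ← G.map_comp_assoc, huv]
  let t : ∀ s : Cocone (D ⋙ G), Cocone ((CostructuredArrow.proj (inc A) c.pt ⋙ inc A) ⋙ G) := fun s =>
    { pt := s.pt
      ι :=
        { app := fun X => G.map (g X) ≫ s.ι.app (j X)
          naturality := fun X Y φ => by
            dsimp
            rw [Category.comp_id]
            erw [← G.map_comp_assoc]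
            refine (val s X (j Y) (φ.left.hom ≫ g Y) ?_).symm
            rw [Category.assoc, hg Y]
            exact CostructuredArrow.w φ } }
  refine
    { desc := fun s => (hG c.pt).some.desc (t s)
      fac := fun s k => ?_
      uniq := fun s m hm => ?_ }
  · refine hom_ext_dense hG fun P f => ?_
    dsimp
    rw [← G.map_comp_assoc]
    haveI := P.property
    exact ((hG c.pt).some.fac (t s) (CostructuredArrow.mk (S := inc A) (Y := P) (f ≫ c.ι.app k))).trans
      (val s (CostructuredArrow.mk (S := inc A) (Y := P) (f ≫ c.ι.app k)) k f rfl)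
  · refine hom_ext_dense hG fun P f => ?_
    refine Eq.trans ?_ ((hG c.pt).some.fac (t s) (CostructuredArrow.mk (S := inc A) (Y := P) f)).symm
    show G.map f ≫ m = G.map (g (CostructuredArrow.mk (S := inc A) (Y := P) f)) ≫ s.ι.app (j (CostructuredArrow.mk (S := inc A) (Y := P) f))
    rw [← hm]
    dsimp
    rw [← G.map_comp_assoc]
    exact congrArg (fun z => G.map z ≫ m) (hg (CostructuredArrow.mk (S := inc A) (Y := P) f)).symm

theorem exists_extension [HasFilteredColimitsOfSize.{u, u} B] (F : (FP A).FullSubcategory ⥤ B) :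
    ∃ G : ModuleCat.{u} A ⥤ B, PreservesFilteredColimitsOfSize.{u, u} G ∧ Nonempty (inc A ⋙ G ≅ F) := by
  haveI : Functor.HasPointwiseLeftKanExtension (inc A) F := fun M => by
    haveI := hasColimitsOfShape_idx (B := B) M
    exact (inferInstance : HasColimit (CostructuredArrow.proj (inc A) M ⋙ F))
  let G := Functor.pointwiseLeftKanExtension (inc A) F
  let α := Functor.pointwiseLeftKanExtensionUnit (inc A) F
  have h := Functor.pointwiseLeftKanExtensionIsPointwiseLeftKanExtension (inc A) F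
  haveI : IsIso α := h.isIso_hom
  refine ⟨G, preserves_of_dense G fun M => ⟨?_⟩, ⟨(asIso α).symm⟩⟩
  refine (IsColimit.precomposeHomEquiv
    (NatIso.ofComponents (fun X => (asIso α).app X.left) (fun φ => α.naturality φ.left) :
      CostructuredArrow.proj (inc A) M ⋙ F ≅ (CostructuredArrow.proj (inc A) M ⋙ inc A) ⋙ G) _).1 ?_
  exact IsColimit.ofIsoColimit (h M) (Cocone.ext (Iso.refl _) fun X => Category.comp_id _)

theorem nonempty_iso (G₁ G₂ : ModuleCat.{u} A ⥤ B) [PreservesFilteredColimitsOfSize.{u, u} G₁]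
    [PreservesFilteredColimitsOfSize.{u, u} G₂] (e : inc A ⋙ G₁ ≅ inc A ⋙ G₂) : Nonempty (G₁ ≅ G₂) := by
  let w : ∀ M, (CostructuredArrow.proj (inc A) M ⋙ inc A) ⋙ G₁ ≅
      (CostructuredArrow.proj (inc A) M ⋙ inc A) ⋙ G₂ := fun M =>
    NatIso.ofComponents (fun X => e.app X.left) (fun φ => e.hom.naturality φ.left)
  let E : ∀ M, G₁.obj M ≅ G₂.obj M := fun M =>
    (dense_of_preserves G₁ M).some.coconePointsIsoOfNatIso (dense_of_preserves G₂ M).some (w M)
  have hE : ∀ {M} (P : (FP A).FullSubcategory) (f : P.obj ⟶ M),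
      G₁.map f ≫ (E M).hom = e.hom.app P ≫ G₂.map f := fun {M} P f =>
    (dense_of_preserves G₁ M).some.comp_coconePointsIsoOfNatIso_hom (dense_of_preserves G₂ M).some (w M)
      (CostructuredArrow.mk (S := inc A) (Y := P) f)
  refine ⟨NatIso.ofComponents E fun {M N} h => ?_⟩
  refine hom_ext_dense (dense_of_preserves G₁) fun P f => ?_
  rw [← G₁.map_comp_assoc, hE, reassoc_of% hE P f, G₂.map_comp]

end Groth.Agent.CohDer1.FPInd
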